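import Mathlib.RingTheory.DedekindDomain.Different
import Mathlib.RingTheory.RamificationInertia.Ramification
import Mathlib.RingTheory.Trace.Quotient
import Mathlib.LinearAlgebra.Trace
import Mathlib.LinearAlgebra.Basis.VectorSpace
import Mathlib.RingTheory.DiscreteValuationRing.Basic

/-! The different of an extension of discrete valuation rings attains its lower bound exactly in
the tame case. -/

namespace Groth.Agent.DiffTame

open IsLocalRing

universe u

section Trace

variable {k : Type*} [Field k] {U V W : Type*} [AddCommGroup U] [Module k U] [FiniteDimensional k U]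
  [AddCommGroup V] [Module k V] [FiniteDimensional k V] [AddCommGroup W] [Module k W]
  [FiniteDimensional k W]

/-- The trace is additive in short exact sequences. -/
theorem trace_of_exact (i : U →ₗ[k] V) (q : V →ₗ[k] W) (hi : Function.Injective i)
    (hq : Function.Surjective q) (hex : LinearMap.range i = LinearMap.ker q) {fU : U →ₗ[k] U}
    {fV : V →ₗ[k] V} {fW : W →ₗ[k] W} (hU : fV ∘ₗ i = i ∘ₗ fU) (hW : fW ∘ₗ q = q ∘ₗ fV) :
    LinearMap.trace k V fV = LinearMap.trace k U fU + LinearMap.trace k W fW := by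
  obtain ⟨s, hs⟩ := q.exists_rightInverse_of_surjective (LinearMap.range_eq_top.mpr hq)
  have hqs : ∀ w, q (s w) = w := fun w => LinearMap.congr_fun hs w
  have hmem : ∀ v, v - s (q v) ∈ LinearMap.range i := fun v => by
    rw [hex, LinearMap.mem_ker, map_sub, hqs, sub_self]
  obtain ⟨r, hr⟩ : ∃ r : V →ₗ[k] U, ∀ v, i (r v) = v - s (q v) :=
    ⟨(LinearEquiv.ofInjective i hi).symm.toLinearMap ∘ₗ
      LinearMap.codRestrict (LinearMap.range i) (LinearMap.id - s ∘ₗ q) hmem, fun v =>
      by
        have := congrArg Subtype.val ((LinearEquiv.ofInjective i hi).apply_symm_apply ⟨_, hmem v⟩)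
        rw [LinearEquiv.ofInjective_apply] at this
        exact this⟩
  have hri : ∀ u, r (i u) = u := fun u => hi (by
    rw [hr, show q (i u) = 0 from LinearMap.mem_ker.mp (hex ▸ ⟨u, rfl⟩), map_zero, sub_zero])
  have hid : fV = (fV ∘ₗ i) ∘ₗ r + (fV ∘ₗ s) ∘ₗ q := LinearMap.ext fun v => by
    simp only [LinearMap.add_apply, LinearMap.comp_apply, ← map_add, hr, sub_add_cancel]
  conv_lhs => rw [hid]
  rw [map_add, LinearMap.trace_comp_comm' r (fV ∘ₗ i), LinearMap.trace_comp_comm' q (fV ∘ₗ s)]
  congr 2
  · refine LinearMap.ext fun u => ?_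
    simp only [LinearMap.comp_apply]
    rw [show fV (i u) = i (fU u) from LinearMap.congr_fun hU u, hri]
  · refine LinearMap.ext fun w => ?_
    simp only [LinearMap.comp_apply]
    rw [show q (fV (s w)) = fW (q (s w)) from (LinearMap.congr_fun hW (s w)).symm, hqs]

variable {R : Type*} [CommRing R] [Algebra k R] [FiniteDimensional k R]

/-- The trace on a uniserial algebra is a multiple of that on its residue field. -/
theorem trace_eq_nsmul (t : R) (e : ℕ) (hte : t ^ e = 0) (hne : ∀ i, i < e → t ^ i ≠ 0)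
    (hloc : ∀ v : R, v ∉ Ideal.span {t} → IsUnit v) (ht : ¬ IsUnit t) (x : R) :
    Algebra.trace k R x = e • Algebra.trace k (R ⧸ Ideal.span {t}) (Ideal.Quotient.mk _ x) := by
  suffices h : ∀ j ≤ e, Algebra.trace k (R ⧸ Ideal.span {t ^ j}) (Ideal.Quotient.mk _ x) =
      j • Algebra.trace k (R ⧸ Ideal.span {t}) (Ideal.Quotient.mk _ x) by
    have hbot : Ideal.span {t ^ e} = ⊥ := by rw [hte, Ideal.span_singleton_zero]
    let ε : R ≃ₐ[k] R ⧸ Ideal.span {t ^ e} :=
      AlgEquiv.ofBijective (Ideal.Quotient.mkₐ k _)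
        ⟨fun a b hab => by
          rw [Ideal.Quotient.mkₐ_eq_mk, Ideal.Quotient.eq, hbot, Ideal.mem_bot, sub_eq_zero] at hab
          exact hab,
         Ideal.Quotient.mkₐ_surjective k _⟩
    rw [← h e le_rfl, ← Algebra.trace_eq_of_algEquiv ε x]
    rfl
  intro j hj
  induction j with
  | zero =>
    haveI : Subsingleton (R ⧸ Ideal.span {t ^ 0}) :=
      Ideal.Quotient.subsingleton_iff.mpr (by rw [pow_zero, Ideal.span_singleton_one])
    rw [Subsingleton.elim (Ideal.Quotient.mk (Ideal.span {t ^ 0}) x) 0, map_zero, zero_smul]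
  | succ j ih =>
    let I := Ideal.span {t}
    let J := Ideal.span {t ^ (j + 1)}
    let J' := Ideal.span {t ^ j}
    have hIJ : (I : Submodule R R) ≤ Submodule.comap (LinearMap.mulLeft R (t ^ j)) J := by
      intro v hv
      obtain ⟨c, rfl⟩ := Ideal.mem_span_singleton'.mp hv
      exact Ideal.mem_span_singleton'.mpr ⟨c, by simp [pow_succ]; ring⟩
    let i := (Submodule.mapQ (I : Submodule R R) J (LinearMap.mulLeft R (t ^ j)) hIJ).restrictScalars k
    have hJJ : J ≤ J' := Ideal.span_singleton_le_span_singleton.mpr (pow_dvd_pow t (Nat.le_succ j))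
    let q := (Ideal.Quotient.factorₐ k hJJ).toLinearMap
    have h1 := trace_of_exact (fU := LinearMap.mul k (R ⧸ I) (Ideal.Quotient.mk I x))
      (fV := LinearMap.mul k (R ⧸ J) (Ideal.Quotient.mk J x))
      (fW := LinearMap.mul k (R ⧸ J') (Ideal.Quotient.mk J' x)) i q ?_ ?_ ?_ ?_ ?_
    · rw [succ_nsmul', ← ih (by omega), Algebra.trace_apply, Algebra.trace_apply,
        Algebra.trace_apply]
      exact h1
    · rw [injective_iff_map_eq_zero]
      intro v hv
      obtain ⟨v, rfl⟩ := Ideal.Quotient.mk_surjective v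
      change Ideal.Quotient.mk J (t ^ j * v) = 0 at hv
      rw [Ideal.Quotient.eq_zero_iff_mem, Ideal.mem_span_singleton'] at hv
      obtain ⟨c, hc⟩ := hv
      rw [Ideal.Quotient.eq_zero_iff_mem]
      by_contra hvI
      have hv' := hloc v hvI
      have hu : IsUnit (v - c * t) := by
        refine hloc _ fun hmem => hvI ?_
        have := I.add_mem hmem (Ideal.mul_mem_left I c (Ideal.mem_span_singleton_self t))
        rwa [sub_add_cancel] at this
      refine hne j (by omega) (hu.mul_left_eq_zero.mp ?_)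
      rw [mul_sub, ← hc, pow_succ]
      ring
    · exact Ideal.Quotient.factor_surjective hJJ
    · refine le_antisymm ?_ ?_
      · rintro _ ⟨v, rfl⟩
        obtain ⟨v, rfl⟩ := Ideal.Quotient.mk_surjective v
        show Ideal.Quotient.mk J' (t ^ j * v) = 0
        rw [Ideal.Quotient.eq_zero_iff_mem]
        exact Ideal.mul_mem_right _ _ (Ideal.mem_span_singleton_self _)
      · intro w hw
        obtain ⟨w, rfl⟩ := Ideal.Quotient.mk_surjective w
        change Ideal.Quotient.mk J' w = 0 at hw
        rw [Ideal.Quotient.eq_zero_iff_mem, Ideal.mem_span_singleton'] at hw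
        obtain ⟨c, rfl⟩ := hw
        exact ⟨Ideal.Quotient.mk I c, show Ideal.Quotient.mk J (t ^ j * c) = _ by rw [mul_comm]⟩
    · refine LinearMap.ext fun v => ?_
      obtain ⟨v, rfl⟩ := Ideal.Quotient.mk_surjective v
      show Ideal.Quotient.mk J x * Ideal.Quotient.mk J (t ^ j * v) =
        Ideal.Quotient.mk J (t ^ j * (x * v))
      rw [← map_mul]; ring_nf
    · refine LinearMap.ext fun v => ?_
      obtain ⟨v, rfl⟩ := Ideal.Quotient.mk_surjective v
      show Ideal.Quotient.mk J' x * Ideal.Quotient.mk J' v = Ideal.Quotient.mk J' (x * v)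
      rw [map_mul]

end Trace

attribute [local instance] Ideal.Quotient.field FractionRing.liftAlgebra
  FractionRing.isScalarTower_liftAlgebra

open nonZeroDivisors in
theorem differentIdeal_eq_pow_iff (A B : Type u) [CommRing A] [IsDomain A] [IsDiscreteValuationRing A]
    [CommRing B] [IsDomain B] [IsDiscreteValuationRing B] [Algebra A B] [Module.Finite A B]
    [Module.IsTorsionFree A B]
    [IsLocalHom (algebraMap A B)] [Algebra.IsSeparable (FractionRing A) (FractionRing B)] :
    differentIdeal A B = maximalIdeal B ^ (Ideal.ramificationIdx (maximalIdeal B) A - 1) ↔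
      (Algebra.IsSeparable (ResidueField A) (ResidueField B) ∧
        ((Ideal.ramificationIdx (maximalIdeal B) A : ℕ) : ResidueField A) ≠ 0) := by
  classical
  set p := maximalIdeal A with hp
  set m := maximalIdeal B with hm
  obtain ⟨ϖ, hϖ⟩ := IsDiscreteValuationRing.exists_irreducible A
  obtain ⟨π, hπ⟩ := IsDiscreteValuationRing.exists_irreducible B
  have hpϖ : p = Ideal.span {ϖ} := hϖ.maximalIdeal_eq
  have hmπ : m = Ideal.span {π} := hπ.maximalIdeal_eq
  have hp0 : p ≠ ⊥ := IsDiscreteValuationRing.not_a_field A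
  have hinj : Function.Injective (algebraMap A B) := FaithfulSMul.algebraMap_injective A B
  have hmap0 : algebraMap A B ϖ ≠ 0 := (map_ne_zero_iff _ hinj).mpr hϖ.ne_zero
  haveI : m.LiesOver p := ⟨(maximalIdeal_comap (algebraMap A B)).symm⟩
  obtain ⟨n, hn⟩ := IsDiscreteValuationRing.ideal_eq_span_pow_irreducible
    (show p.map (algebraMap A B) ≠ ⊥ from Ideal.map_ne_bot_of_ne_bot hp0) hπ
  have hn' : p.map (algebraMap A B) = m ^ n := by rw [hn, hmπ, Ideal.span_singleton_pow]
  have hpow : ∀ a b : ℕ, m ^ a ≤ m ^ b → b ≤ a := fun a b hab => by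
    rw [hmπ, Ideal.span_singleton_pow, Ideal.span_singleton_pow,
      Ideal.span_singleton_le_span_singleton] at hab
    exact (pow_dvd_pow_iff hπ.ne_zero hπ.not_isUnit).mp hab
  have hn1 : 1 ≤ n := by
    rcases Nat.eq_zero_or_pos n with h | h
    · exfalso
      refine m.ne_top_iff_one.mp (maximalIdeal.isMaximal B).ne_top ?_
      have hle : p.map (algebraMap A B) ≤ m := Ideal.map_le_iff_le_comap.mpr Ideal.LiesOver.over.le
      rw [hn', h, pow_zero, Ideal.one_eq_top] at hle
      exact hle Submodule.mem_top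
    · exact h
  have he : Ideal.ramificationIdx m A = n := by
    rw [← Ideal.ramificationIdx'_eq_ramificationIdx p m hp0]
    exact Ideal.ramificationIdx'_spec hn'.le fun h => by
      have := hpow _ _ (hn' ▸ h)
      omega
  rw [he]
  have hdvd : m ^ (n - 1) ∣ differentIdeal A B :=
    pow_sub_one_dvd_differentIdeal A m n hp0 (by rw [hn'])
  have hD0 : differentIdeal A B ≠ ⊥ := differentIdeal_ne_bot
  obtain ⟨N, hN⟩ := IsDiscreteValuationRing.ideal_eq_span_pow_irreducible hD0 hπ
  rw [← Ideal.span_singleton_pow, ← hmπ] at hN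
  have hN1 : n - 1 ≤ N := hpow _ _ (by rw [← hN]; exact Ideal.le_of_dvd hdvd)
  have key : differentIdeal A B = m ^ (n - 1) ↔ ∃ x : B, Algebra.intTrace A B x ∉ p := by
    constructor
    · intro h
      by_contra! hall
      have hle : differentIdeal A B ≤ m ^ n := by
        have hmn : m ^ n ≠ ⊥ := by
          rw [hmπ, Ideal.span_singleton_pow]
          exact fun h => pow_ne_zero _ hπ.ne_zero (Ideal.span_singleton_eq_bot.mp h)
        let K := FractionRing A
        let L := FractionRing B
        haveI : IsLocalization (Algebra.algebraMapSubmonoid B A⁰) L :=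
          IsIntegralClosure.isLocalization _ K _ _
        haveI : FiniteDimensional K L := .of_isLocalization A B A⁰
        rw [differentialIdeal_le_iff (K := K) (L := L) hmn, Submodule.map_le_iff_le_comap]
        intro z hz
        rw [Submodule.mem_comap, LinearMap.coe_restrictScalars]
        rw [Submodule.restrictScalars_mem, FractionalIdeal.mem_coe, ← hn', hpϖ, Ideal.map_span,
          Set.image_singleton, FractionalIdeal.coeIdeal_span_singleton,
          FractionalIdeal.spanSingleton_inv, FractionalIdeal.mem_spanSingleton] at hz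
        obtain ⟨b, rfl⟩ := hz
        obtain ⟨a, ha⟩ := Ideal.mem_span_singleton'.mp (hpϖ ▸ hall b)
        refine Submodule.mem_one.mpr ⟨a, ?_⟩
        have htr : Algebra.trace K L (algebraMap B L b) = algebraMap A K (a * ϖ) := by
          rw [← Algebra.algebraMap_intTrace (A := A), ha]
        have hz' : b • (algebraMap B L (algebraMap A B ϖ))⁻¹ =
            (algebraMap A K ϖ)⁻¹ • algebraMap B L b := by
          rw [Algebra.smul_def, Algebra.smul_def, map_inv₀, ← IsScalarTower.algebraMap_apply A B L,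
            ← IsScalarTower.algebraMap_apply A K L, mul_comm]
        rw [hz', map_smul, htr, smul_eq_mul, map_mul, mul_comm (algebraMap A K a), ← mul_assoc,
          inv_mul_cancel₀ (IsFractionRing.to_map_eq_zero_iff.not.mpr hϖ.ne_zero), one_mul]
      have := hpow _ _ (h ▸ hle)
      omega
    · rintro ⟨x, hx⟩
      have hnd := not_dvd_differentIdeal_of_intTrace_not_mem A (m ^ n) ⊤
        (by rw [Ideal.mul_top, hn']) x Submodule.mem_top hx
      have : N ≤ n - 1 := by
        by_contra hh
        exact hnd (hN ▸ pow_dvd_pow m (by omega))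
      rw [hN, le_antisymm this hN1]
  rw [key]
  set V := B ⧸ p.map (algebraMap A B)
  set t : V := Ideal.Quotient.mk _ π with ht
  haveI : Module.Finite (A ⧸ p) V := Module.Finite.of_restrictScalars_finite A _ _
  have hmk0 : ∀ b : B, Ideal.Quotient.mk (p.map (algebraMap A B)) b = 0 ↔ π ^ n ∣ b := fun b => by
    rw [Ideal.Quotient.eq_zero_iff_mem, hn, Ideal.mem_span_singleton]
  have hspan : ∀ b : B, Ideal.Quotient.mk (p.map (algebraMap A B)) b ∈ Ideal.span {t} ↔ b ∈ m := fun b => by
    rw [hmπ, Ideal.mem_span_singleton, Ideal.mem_span_singleton]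
    refine ⟨fun ⟨c, hc⟩ => ?_, fun h => map_dvd _ h⟩
    obtain ⟨c, rfl⟩ := Ideal.Quotient.mk_surjective c
    rw [ht, ← map_mul, Ideal.Quotient.eq, hn, Ideal.mem_span_singleton] at hc
    have h1 := (dvd_pow_self π (by omega : n ≠ 0)).trans hc
    have h2 := dvd_add h1 (dvd_mul_right π c)
    rwa [sub_add_cancel] at h2
  have htr := trace_eq_nsmul (k := A ⧸ p) t n
    (by rw [ht, ← map_pow]; exact (hmk0 _).mpr dvd_rfl)
    (fun i hi h0 => by
      rw [ht, ← map_pow, hmk0, pow_dvd_pow_iff hπ.ne_zero hπ.not_isUnit] at h0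
      omega)
    (fun v hv => by
      obtain ⟨b, rfl⟩ := Ideal.Quotient.mk_surjective v
      exact IsUnit.map _ (notMem_maximalIdeal.mp fun h => hv ((hspan b).mpr h)))
    (fun hu => by
      have h1 := Ideal.span_singleton_eq_top.mpr hu
      have h2 : (1 : B) ∈ m := (hspan 1).mp (by rw [h1]; exact Submodule.mem_top)
      exact (maximalIdeal.isMaximal B).ne_top ((Ideal.eq_top_iff_one _).mpr h2))
  haveI : (Ideal.span {t}).IsMaximal := by
    refine Ideal.isMaximal_iff.mpr ⟨fun h1 => ?_, fun J v hle hv hvJ => ?_⟩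
    · exact (maximalIdeal.isMaximal B).ne_top ((Ideal.eq_top_iff_one _).mpr ((hspan 1).mp (by rwa [map_one])))
    · obtain ⟨b, rfl⟩ := Ideal.Quotient.mk_surjective v
      exact (Ideal.eq_top_iff_one J).mp (Ideal.eq_top_of_isUnit_mem _ hvJ
        (IsUnit.map _ (notMem_maximalIdeal.mp fun h => hv ((hspan b).mpr h))))
  let f : B →+* V ⧸ Ideal.span {t} := (Ideal.Quotient.mk _).comp (Ideal.Quotient.mk _)
  have hf : Function.Surjective f :=
    Ideal.Quotient.mk_surjective.comp Ideal.Quotient.mk_surjective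
  have hkf : RingHom.ker f = m := Ideal.ext fun b => by
    rw [RingHom.mem_ker, RingHom.comp_apply, Ideal.Quotient.eq_zero_iff_mem, hspan]
  let εB : ResidueField B ≃+* V ⧸ Ideal.span {t} :=
    (Ideal.quotEquivOfEq hkf.symm).trans (RingHom.quotientKerEquivOfSurjective hf)
  let εA : ResidueField A ≃+* A ⧸ p := RingEquiv.refl _
  have hsq : ∀ c, εB (algebraMap (ResidueField A) (ResidueField B) c) =
      algebraMap (A ⧸ p) (V ⧸ Ideal.span {t}) (εA c) := fun c => by
    obtain ⟨a, rfl⟩ := residue_surjective c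
    rfl
  have hsep : Algebra.IsSeparable (ResidueField A) (ResidueField B) ↔
      Algebra.IsSeparable (A ⧸ p) (V ⧸ Ideal.span {t}) := by
    constructor
    · intro h
      exact Algebra.IsSeparable.of_equiv_equiv εA εB (RingHom.ext fun c => (hsq c).symm)
    · intro h
      exact Algebra.IsSeparable.of_equiv_equiv εA.symm εB.symm (RingHom.ext fun c => by
        apply εB.injective
        simp only [RingHom.comp_apply, RingEquiv.coe_toRingHom, RingEquiv.apply_symm_apply]
        rw [hsq, RingEquiv.apply_symm_apply])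
  have hred : ∀ x : B, Algebra.intTrace A B x ∈ p ↔
      n • Algebra.trace (A ⧸ p) (V ⧸ Ideal.span {t}) (f x) = 0 := fun x => by
    rw [← Ideal.Quotient.eq_zero_iff_mem, ← Algebra.trace_quotient_eq_of_isDedekindDomain, htr]
    rfl
  simp only [hred, hsep]
  constructor
  · rintro ⟨x, hx⟩
    refine ⟨by_contra fun hs => hx ?_, fun h0 => hx ?_⟩
    · rw [Algebra.trace_eq_zero_of_not_isSeparable hs, LinearMap.zero_apply, smul_zero]
    · rw [nsmul_eq_mul]
      have h0' : ((n : ℕ) : A ⧸ p) = 0 := h0
      rw [h0', zero_mul]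
  · rintro ⟨hs, hn0⟩
    haveI := hs
    obtain ⟨y, hy⟩ : ∃ y, Algebra.trace (A ⧸ p) (V ⧸ Ideal.span {t}) y ≠ 0 := by
      by_contra! h
      exact Algebra.trace_ne_zero (A ⧸ p) (V ⧸ Ideal.span {t}) (LinearMap.ext h)
    obtain ⟨x, rfl⟩ := hf y
    exact ⟨x, by rw [nsmul_eq_mul]; exact mul_ne_zero (fun h => hn0 h) hy⟩

end Groth.Agent.DiffTame
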